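import Groth.Agent.HomRep.MorAF
import Groth.Prelude.Def_WeilRes

/-!
Morphisms out of a finite locally free universal homeomorphism, and Weil restriction along it.
-/

set_option autoImplicit false
set_option backward.isDefEq.respectTransparency false
set_option backward.isDefEq.respectTransparency.types false
set_option linter.style.haveILetI false

universe u

open CategoryTheory CategoryTheory.Limits MonoidalCategory CartesianMonoidalCategory AlgebraicGeometry Opposite

noncomputable section

namespace Groth.Agent.WeilHomeoLib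

open HomRep.MorS HomRep.MorAF

variable {Z X S : Scheme.{u}} (g : Z ⟶ S) (f : X ⟶ S)

/-- Morphisms out of a finite locally free universal homeomorphism form a representable functor. -/
theorem exists_representable [IsFinite g] [Flat g] [LocallyOfFinitePresentation g]
    [UniversallyInjective g] [Surjective g] :
    ∃ W : Over S, Nonempty ((Flatn.morS g f).RepresentableBy W) := by
  let F := Flatn.morS g f
  choose A e hrep using fun i : Ix f => exists_chart' g (i.1.2.ι ≫ f) Γ(S, i.1.1) (pp f i)
  let Z₀ : Ix f → Over S := fun i => (Over.map (pp f i)).obj (A i)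
  let e' : ∀ i, F.obj (op (Z₀ i)) := fun i => post g f i.1.2 (e i)
  have lift : ∀ (i : Ix f) (T : Over S) (x : T.left ⟶ Spec Γ(S, i.1.1)), x ≫ pp f i = T.hom →
      ∀ s : (Flatn.morS g (i.1.2.ι ≫ f)).obj (op T),
        ∃ a : T ⟶ Z₀ i, (Flatn.morS g (i.1.2.ι ≫ f)).map a.op (e i) = s := by
    intro i T x hx s
    let T₀ : Over (Spec Γ(S, i.1.1)) := Over.mk x
    let c : (Over.map (pp f i)).obj T₀ ≅ T := Over.isoMk (Iso.refl _) (by simpa [T₀] using hx.symm)
    obtain ⟨a, ha, -⟩ := hrep i T₀ ((Flatn.morS g (i.1.2.ι ≫ f)).map c.hom.op s)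
    refine ⟨c.inv ≫ (Over.map (pp f i)).map a, ?_⟩
    rw [op_comp, Functor.map_comp, ConcreteCategory.comp_apply, ha, ← ConcreteCategory.comp_apply,
      ← Functor.map_comp, ← op_comp, c.inv_hom_id, op_id]
    exact congrArg (fun φ => φ s) ((Flatn.morS g (i.1.2.ι ≫ f)).map_id (op T))
  have hinj : ∀ (i : Ix f) (T : Over S) (a b : T ⟶ Z₀ i), F.map a.op (e' i) = F.map b.op (e' i) → a = b := by
    intro i T a b h
    rw [post_map, post_map] at h
    replace h := post_injective g f _ h
    have hab : a.left ≫ (A i).hom = b.left ≫ (A i).hom := by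
      rw [← cancel_mono (pp f i), Category.assoc, Category.assoc]
      exact (Over.w a).trans (Over.w b).symm
    let T₀ : Over (Spec Γ(S, i.1.1)) := Over.mk (a.left ≫ (A i).hom)
    let c : (Over.map (pp f i)).obj T₀ ⟶ T :=
      Over.homMk (𝟙 _) ((Category.id_comp _).trans (((Over.w a).symm.trans (Category.assoc _ _ _).symm) :))
    let a₀ : T₀ ⟶ A i := Over.homMk a.left rfl
    let b₀ : T₀ ⟶ A i := Over.homMk b.left hab.symm
    have ea : (Over.map (pp f i)).map a₀ = c ≫ a := Over.OverMorphism.ext (Category.id_comp _).symm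
    have eb : (Over.map (pp f i)).map b₀ = c ≫ b := Over.OverMorphism.ext (Category.id_comp _).symm
    obtain ⟨d, -, hu⟩ := hrep i T₀ ((Flatn.morS g (i.1.2.ι ≫ f)).map c.op ((Flatn.morS g (i.1.2.ι ≫ f)).map a.op (e i)))
    have h1 : a₀ = d := hu a₀ (by beta_reduce; rw [ea, op_comp, Functor.map_comp]; rfl)
    have h2 : b₀ = d := hu b₀ (by beta_reduce; rw [eb, op_comp, Functor.map_comp, h]; rfl)
    exact Over.OverMorphism.ext (congrArg CommaMorphism.left (h1.trans h2.symm) :)
  have hopen : ∀ (i : Ix f) (T : Over S) (s : F.obj (op T)), ∃ Vo : T.left.Opens,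
      (∀ (T' : Over S) (t : T' ⟶ T), (∃ a : T' ⟶ Z₀ i, F.map a.op (e' i) = F.map t.op s) ↔
        Set.range t.left ⊆ Vo) ∧
      ∀ z, T.hom z ∈ i.1.1 → (∀ w : (pullback T.hom g : Scheme.{u}), pullback.fst T.hom g w = z → s.left w ∈ i.1.2) →
        z ∈ Vo := by
    intro i T s
    let q : (pullback T.hom g : Scheme.{u}) ⟶ T.left := pullback.fst T.hom g
    let sl : (pullback T.hom g : Scheme.{u}) ⟶ X := s.left
    let C : Set (pullback T.hom g : Scheme.{u}) := ((sl ⁻¹ᵁ i.1.2 : (pullback T.hom g).Opens) : Set _)ᶜ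
    have hC : IsClosed (q '' C) := q.isClosedMap _ (sl ⁻¹ᵁ i.1.2).2.isClosed_compl
    refine ⟨⟨(T.hom ⁻¹ᵁ i.1.1 : Set T.left) ∩ (q '' C)ᶜ, (T.hom ⁻¹ᵁ i.1.1).2.inter hC.isOpen_compl⟩,
      fun T' t => ⟨?_, fun hr => ?_⟩, fun z hz hw => ⟨hz, ?_⟩⟩
    · rintro ⟨a, ha⟩ _ ⟨z, rfl⟩
      refine ⟨?_, ?_⟩
      · show T.hom (t.left z) ∈ i.1.1
        rw [← SetLike.mem_coe, ← range_pp f i]
        let al : T'.left ⟶ (A i).left := a.left
        refine ⟨(A i).hom (al z), ?_⟩
        have h0 : al ≫ (A i).hom ≫ pp f i = t.left ≫ T.hom := (Over.w a).trans (Over.w t).symm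
        exact ((Scheme.Hom.comp_apply (A i).hom (pp f i) _).symm.trans ((Scheme.Hom.comp_apply al _ z).symm.trans
          ((congrArg (fun m : T'.left ⟶ S => m z) h0).trans (Scheme.Hom.comp_apply t.left T.hom z))))
      · rintro ⟨w, hw, hwz⟩
        obtain ⟨u, hu1, hu2⟩ := Scheme.Pullback.exists_preimage_pullback z w hwz.symm (f := t.left) (g := q)
        have hcond : pullback.fst t.left q ≫ T'.hom = (pullback.snd t.left q ≫ pullback.snd T.hom g) ≫ g := by
          rw [Category.assoc, ← pullback.condition, ← pullback.condition_assoc, Over.w t]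
        let l := pullback.lift (f := T'.hom) (g := g) (pullback.fst t.left q) (pullback.snd t.left q ≫ pullback.snd T.hom g) hcond
        have hl : l ≫ ((Over.pullback g).map t).left = pullback.snd t.left q := by
          refine pullback.hom_ext ?_ ?_
          · simp [l, q, pullback.condition]
          · simp [l]
        rw [post_map] at ha
        have h2 := congrArg (fun m => (l ≫ CommaMorphism.left m) u) ha
        have h3 : (l ≫ (((Flatn.morS g f).map t.op) s).left) u = s.left w := by
          let tl : pullback T'.hom g ⟶ pullback T.hom g := ((Over.pullback g).map t).left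
          show (l ≫ tl ≫ sl) u = sl w
          have hl' : l ≫ tl = pullback.snd t.left q := hl
          rw [← Category.assoc, hl', Scheme.Hom.comp_apply, hu2]
        refine hw (show s.left w ∈ i.1.2 from ?_)
        rw [← h3, ← h2]
        show (l ≫ _ ≫ i.1.2.ι) u ∈ i.1.2
        rw [← Category.assoc, Scheme.Hom.comp_apply, ← SetLike.mem_coe, ← Scheme.Opens.range_ι]
        exact ⟨_, rfl⟩
    · have hrV : Set.range T'.hom ⊆ Set.range (pp f i) := by
        rintro _ ⟨z, rfl⟩
        rw [range_pp, ← Over.w t, Scheme.Hom.comp_apply]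
        exact (hr ⟨z, rfl⟩).1
      have hrU : Set.range (F.map t.op s).left ⊆ (i.1.2 : Set X) := by
        rintro _ ⟨v, rfl⟩
        show (((Over.pullback g).map t).left ≫ s.left) v ∈ i.1.2
        rw [Scheme.Hom.comp_apply]
        by_contra hne
        refine (hr ⟨pullback.fst T'.hom g v, rfl⟩).2 ⟨((Over.pullback g).map t).left v, hne, ?_⟩
        let tl : pullback T'.hom g ⟶ pullback T.hom g := ((Over.pullback g).map t).left
        show q (tl v) = t.left (pullback.fst T'.hom g v)
        exact (Scheme.Hom.comp_apply tl q v).symm.trans ((congrArg (fun m : pullback T'.hom g ⟶ T.left => m v)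
          (show tl ≫ q = pullback.fst T'.hom g ≫ t.left by simp [q, tl])).trans (Scheme.Hom.comp_apply _ _ v))
      obtain ⟨x, hx⟩ := exists_post g f _ (F.map t.op s) hrU
      obtain ⟨a, ha⟩ := lift i T' (IsOpenImmersion.lift (pp f i) T'.hom hrV) (IsOpenImmersion.lift_fac _ _ _) x
      exact ⟨a, by rw [post_map, ha, hx]⟩
    · rintro ⟨w, hw', hwz⟩
      exact hw' (hw w hwz)
  choose Vo hVo hVmem using hopen
  obtain ⟨Y, hY⟩ := OverRep.exists_representableBy_of_cover (isSheaf g f) Z₀ e' hinj
    (fun i T s => ⟨Vo i T s, hVo i T s⟩) (fun T s z => by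
      obtain ⟨_, ⟨V, hV, rfl⟩, hzV, -⟩ :=
        S.isBasis_affineOpens.exists_subset_of_mem_open (Set.mem_univ (T.hom z)) isOpen_univ
      haveI : UniversallyInjective (pullback.fst T.hom g) := MorphismProperty.pullback_fst _ _ inferInstance
      obtain ⟨w, hw⟩ := (pullback.fst T.hom g).surjective z
      have hfw : f (s.left w) = T.hom z := by
        have h1 : s.left ≫ f = pullback.fst T.hom g ≫ T.hom := (Over.w s).trans pullback.condition.symm
        refine ((Scheme.Hom.comp_apply s.left f _).symm.trans (congrArg (fun m : pullback T.hom g ⟶ S => m w) h1)).trans ?_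
        show (pullback.fst T.hom g ≫ T.hom) _ = _
        rw [Scheme.Hom.comp_apply, hw]
      obtain ⟨_, ⟨U, hU, rfl⟩, hwU, hUV⟩ := X.isBasis_affineOpens.exists_subset_of_mem_open
        (show s.left w ∈ f ⁻¹ᵁ V from show f (s.left w) ∈ V by rw [hfw]; exact hzV) (f ⁻¹ᵁ V).2
      let i : Ix f := ⟨(V, U), hV, hU, hUV⟩
      have hz : z ∈ Vo i T s := hVmem i T s z hzV fun v hv => by
        rw [(pullback.fst T.hom g).injective (hv.trans hw.symm)]
        exact hwU
      let T' : Over S := Over.mk ((Vo i T s).ι ≫ T.hom)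
      let t : T' ⟶ T := Over.homMk (Vo i T s).ι rfl
      have ht : t.left = (Vo i T s).ι := rfl
      obtain ⟨a, ha⟩ := (hVo i T s T' t).2 ((ht ▸ (Scheme.Opens.range_ι (Vo i T s)).le))
      exact ⟨i, T', t, a, inferInstanceAs (IsOpenImmersion (Vo i T s).ι),
        ht ▸ (Scheme.Opens.range_ι (Vo i T s)).ge hz, ha⟩)
  exact ⟨Y, hY⟩

/-- Composition of sections with a morphism of targets. -/
def postComp {X' : Scheme.{u}} {f' : X' ⟶ S} (b : X ⟶ X') (hb : b ≫ f' = f) {T : Over S}
    (x : (Flatn.morS g f).obj (op T)) : (Flatn.morS g f').obj (op T) :=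
  x ≫ (Over.homMk b hb : Over.mk f ⟶ Over.mk f')

/-- Weil restriction along a finite locally free universal homeomorphism exists. -/
theorem exists_isWeilRes {S' : Scheme.{u}} (p : S' ⟶ S) [IsFinite p] [Flat p] [LocallyOfFinitePresentation p]
    [UniversallyInjective p] [Surjective p] (X' : Over S') :
    ∃ (R : Over S) (q : Red.bc p R ⟶ X'), WeilRes.IsWeilRes p X' R q := by
  let fX : X'.left ⟶ S := X'.hom ≫ p
  obtain ⟨WX, ⟨rX⟩⟩ := exists_representable p fX
  obtain ⟨WS, ⟨rS⟩⟩ := exists_representable p p
  let π : WX ⟶ WS := rS.homEquiv.symm (postComp p fX X'.hom rfl (rX.homEquiv (𝟙 WX)))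
  let one : (Over.mk (𝟙 S) : Over S) ⟶ WS := rS.homEquiv.symm
    (Over.homMk (pullback.snd (𝟙 S) p) rfl : (Flatn.morS p p).obj (op (Over.mk (𝟙 S))))
  let R : Over S := pullback π one
  have hπ : ∀ {T : Over S} (a : T ⟶ WX), rS.homEquiv (a ≫ π) = postComp p fX X'.hom rfl (rX.homEquiv a) := by
    intro T a
    rw [rS.homEquiv_comp, rX.homEquiv_eq a]
    simp only [π, Equiv.apply_symm_apply]
    show (Over.map p).map ((Over.pullback p).map a) ≫ (rX.homEquiv (𝟙 WX) ≫ _) =
      ((Over.map p).map ((Over.pullback p).map a) ≫ rX.homEquiv (𝟙 WX)) ≫ _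
    exact (Category.assoc _ _ _).symm
  have hone : ∀ {T : Over S} (t : T ⟶ Over.mk (𝟙 S)), (rS.homEquiv (t ≫ one)).left = pullback.snd T.hom p := by
    intro T t
    rw [rS.homEquiv_comp]
    simp only [one, Equiv.apply_symm_apply]
    show ((Over.pullback p).map t).left ≫ pullback.snd (𝟙 S) p = _
    exact pullback.lift_snd _ _ _
  have key : ∀ {T : Over S} (a : T ⟶ WX) (t : T ⟶ Over.mk (𝟙 S)), a ≫ π = t ≫ one ↔
      (rX.homEquiv a).left ≫ X'.hom = pullback.snd T.hom p := by
    intro T a t
    rw [← rS.homEquiv.injective.eq_iff, hπ, ← hone t]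
    exact ⟨fun h => congrArg CommaMorphism.left h, fun h => Over.OverMorphism.ext h⟩
  let term : ∀ T : Over S, T ⟶ Over.mk (𝟙 S) := fun T => Over.homMk T.hom (Category.comp_id _)
  let toR : ∀ {T : Over S}, (Red.bc p T ⟶ X') → (T ⟶ R) := fun {T} v =>
    pullback.lift (rX.homEquiv.symm (Over.homMk v.left (by
      show v.left ≫ X'.hom ≫ p = _
      rw [← Category.assoc, Over.w v]
      rfl) : (Flatn.morS p fX).obj (op T))) (term T) ((key _ _).2 (by
        rw [Equiv.apply_symm_apply]
        exact Over.w v))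
  let e : (WeilRes.functor p X').RepresentableBy R :=
    { homEquiv := fun {T} =>
        { toFun := fun c => Over.homMk (rX.homEquiv (c ≫ pullback.fst π one)).left
            ((key (c ≫ pullback.fst π one) (c ≫ pullback.snd π one)).1 (by
              rw [Category.assoc, pullback.condition, Category.assoc]))
          invFun := toR
          left_inv := fun c => by
            refine pullback.hom_ext ?_ (Over.OverMorphism.ext ?_)
            · refine (pullback.lift_fst _ _ _).trans ?_
              rw [Equiv.symm_apply_eq]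
              exact Over.OverMorphism.ext rfl
            · have h1 := Over.w (toR (Over.homMk (rX.homEquiv (c ≫ pullback.fst π one)).left
                ((key (c ≫ pullback.fst π one) (c ≫ pullback.snd π one)).1 (by
                  rw [Category.assoc, pullback.condition, Category.assoc])) : Red.bc p T ⟶ X') ≫ pullback.snd π one)
              have h2 := Over.w (c ≫ pullback.snd π one)
              exact (Category.comp_id _).symm.trans (h1.trans (h2.symm.trans (Category.comp_id _)))
          right_inv := fun v => by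
            refine Over.OverMorphism.ext ?_
            simp only [toR, Over.homMk_left, pullback.lift_fst, Equiv.apply_symm_apply] }
      homEquiv_comp := fun {T T'} t c => by
        refine Over.OverMorphism.ext ?_
        show (rX.homEquiv ((t ≫ c) ≫ pullback.fst π one)).left = _
        rw [Category.assoc, rX.homEquiv_comp]
        rfl }
  exact ⟨R, e.homEquiv (𝟙 R), WeilRes.IsWeilRes.of_representableBy e⟩

end Groth.Agent.WeilHomeoLib
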